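/-
Surjectivity of multiplication from vanishing of the kernel bundle.
-/
import Groth.Agent.RegTilde.Mumford
import Groth.Agent.CurveRR.TmapR
import Groth.Agent.CurveRR.Series
import Groth.Agent.CurveRR.GlobGen
import Groth.Agent.DCohLocus.FreeLocus
import Groth.Agent.HodgeCI.Generic
import Groth.Agent.ResDesc.Main
import Groth.Agent.W7Hull.AmpleSurj
import Groth.Agent.CohFinite.Proper
import Groth.Agent.RelGen.LocFreeLocal

set_option autoImplicit false
set_option linter.style.haveILetI false
set_option linter.unusedSectionVars false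
set_option backward.isDefEq.respectTransparency false
set_option backward.isDefEq.respectTransparency.types false
set_option maxHeartbeats 1000000

universe u

open CategoryTheory CategoryTheory.Limits AlgebraicGeometry TopologicalSpace Opposite
open Groth.Agent.CohFinite (tmap hhMap)
open Groth.Agent.QC (res app_res)

noncomputable section

namespace Groth.Agent.SyzMul

variable (k : Type u) [Field k] {X : Scheme.{u}} [X.Over (Spec (CommRingCat.of k))]

/-- A standard section of a free module. -/
def basisSec (J : Type u) (j : J) : Γ((∐ fun _ : J => Coh.structureModule X), ⊤) :=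
  (Sigma.ι (fun _ : J => Coh.structureModule X) j).app ⊤ (1 : Γ(X, ⊤))

/-- The index set is finite. -/
theorem finite_index [IsProper (X ↘ Spec (CommRingCat.of k))] [Nonempty X] {L : X.Modules} (hL : Coh.IsCoh L)
    (J : Type u) (ev : (∐ fun _ : J => Coh.structureModule X) ⟶ L) (hinj : Function.Injective (ev.app ⊤)) :
    Finite J := by
  classical
  haveI := CurveRR.isNoetherian_of_proper k X
  haveI := CohFinite.finite_proper k X L hL 0
  letI := CurveRR.secMod k L ⊤
  letI := CurveRR.secMod k (∐ fun _ : J => Coh.structureModule X) ⊤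
  haveI : Module.Finite k Γ(L, ⊤) := Module.Finite.equiv (CurveRR.secH0 (k := k) L).symm
  let f : Γ((∐ fun _ : J => Coh.structureModule X), ⊤) →ₗ[k] Γ(L, ⊤) :=
    { toFun := fun s => ev.app ⊤ s
      map_add' := fun a b => map_add _ a b
      map_smul' := fun a s => Scheme.Modules.Hom.app_smul ev (CurveRR.cst k X ⊤ a) s }
  haveI : Nontrivial Γ(X, ⊤) := by
    obtain ⟨x⟩ := ‹Nonempty X›
    exact (X.presheaf.germ ⊤ x trivial).hom.domain_nontrivial
  have hli : LinearIndependent k (fun j => basisSec (X := X) J j) := by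
    refine linearIndependent_iff'.2 fun s a h j hj => ?_
    let π : (∐ fun _ : J => Coh.structureModule X) ⟶ Coh.structureModule X :=
      Sigma.desc fun i => if i = j then 𝟙 _ else 0
    have hπ : ∀ i, π.app ⊤ (basisSec J i) = if i = j then (1 : Γ(X, ⊤)) else 0 := fun i => by
      show (Sigma.ι (fun _ : J => Coh.structureModule X) i ≫ π).app ⊤ (1 : Γ(X, ⊤)) = _
      rw [Sigma.ι_desc]
      split_ifs <;> rfl
    have h' := congrArg (π.app ⊤) h
    rw [map_sum, map_zero, Finset.sum_eq_single j] at h'
    · change π.app ⊤ (CurveRR.cst k X ⊤ (a j) • basisSec J j) = 0 at h'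
      rw [Scheme.Modules.Hom.app_smul, hπ, if_pos rfl] at h'
      have h'' : CurveRR.cst k X ⊤ (a j) * 1 = 0 := h'
      rw [mul_one] at h''
      by_contra hne
      exact ((IsUnit.mk0 _ hne).map (CurveRR.cst k X ⊤)).ne_zero h''
    · intro i _ hi
      show π.app ⊤ (CurveRR.cst k X ⊤ (a i) • basisSec J i) = 0
      rw [Scheme.Modules.Hom.app_smul, hπ, if_neg hi]
      exact smul_zero _
    · exact fun h0 => (h0 hj).elim
  have h2 : LinearIndependent k (f ∘ fun j => basisSec (X := X) J j) :=
    hli.map' f (LinearMap.ker_eq_bot.2 hinj)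
  exact h2.finite

/-- Local frames. -/
theorem hasFrames {E : X.Modules} (hE : FlatMod.IsFinLocFree E) : CurveRR.HasFrames E := fun {U x} hx => by
  obtain ⟨W, n, e, hxW, he⟩ := TMul.exists_isFrame hE x
  exact ⟨U ⊓ W, inf_le_left, n, fun i => res E inf_le_right (e i), ⟨hx, hxW⟩, fun y hy => by
    simpa only [WeakAssLib.mgerm_res] using he y hy.2⟩

/-- Tensor powers are locally free. -/
theorem isFinLocFree_pow {E : X.Modules} (hE : FlatMod.IsFinLocFree E) :
    ∀ m : ℕ, FlatMod.IsFinLocFree (CohB1.tensorPow E m)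
  | 0 => ResDesc.isFinLocFree_of_isInvertible (TMul.isInvertible_structureModule (X := X))
  | m + 1 => ResDesc.isFinLocFree_tensorMod (isFinLocFree_pow hE m) hE

/-- Sections of a finite free module tensor `F` are sums of pure tensors. -/
theorem free_tensor_mem {J : Type u} [Fintype J] (F : X.Modules)
    (t : Γ(CohB1.tensorMod (∐ fun _ : J => Coh.structureModule X) F, ⊤)) :
    t ∈ Mumford.pureSums (∐ fun _ : J => Coh.structureModule X) F := by
  classical
  let π : ∀ j : J, (∐ fun _ : J => Coh.structureModule X) ⟶ Coh.structureModule X := fun j =>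
    Sigma.desc fun i => if i = j then 𝟙 _ else 0
  have hid : (∑ j, π j ≫ Sigma.ι (fun _ : J => Coh.structureModule X) j) = 𝟙 _ := by
    refine Sigma.hom_ext _ _ fun i => ?_
    rw [Preadditive.comp_sum, Category.comp_id, Finset.sum_eq_single i]
    · rw [Sigma.ι_desc_assoc, if_pos rfl, Category.id_comp]
    · intro j _ hj
      rw [Sigma.ι_desc_assoc, if_neg (Ne.symm hj), zero_comp]
    · exact fun h => (h (Finset.mem_univ i)).elim
  let ψ : ((∐ fun _ : J => Coh.structureModule X) ⟶ (∐ fun _ : J => Coh.structureModule X)) →+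
      Γ(CohB1.tensorMod (∐ fun _ : J => Coh.structureModule X) F, ⊤) :=
    AddMonoidHom.mk' (fun φ => (tmap φ F).app ⊤ t) fun φ φ' => by rw [CohFinite.tmap_add]; rfl
  have ht : ψ (𝟙 _) = t := by
    show (tmap (𝟙 _) F).app ⊤ t = t
    rw [CohFinite.tmap_id]
    rfl
  rw [← ht, ← hid, map_sum]
  refine AddSubgroup.sum_mem _ fun j _ => ?_
  show (tmap (π j ≫ Sigma.ι (fun _ : J => Coh.structureModule X) j) F).app ⊤ t ∈ _
  rw [CohFinite.tmap_comp]
  show (tmap (Sigma.ι (fun _ : J => Coh.structureModule X) j) F).app ⊤ ((tmap (π j) F).app ⊤ t) ∈ _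
  let s : Γ(F, ⊤) := (TMul.leftUnitIso F).hom.app ⊤ ((tmap (π j) F).app ⊤ t)
  have hs : (tmap (π j) F).app ⊤ t = TMul.tm (M := Coh.structureModule X) (1 : Γ(X, ⊤)) s := by
    refine (Scheme.Modules.Hom.isIso_iff_isIso_app (φ := (TMul.leftUnitIso F).hom)).1 inferInstance ⊤ |>
      (fun h => (ConcreteCategory.isIso_iff_bijective _).1 h) |>.1 ?_
    rw [CurveRR.leftUnitIso_tm, one_smul]
  rw [hs, CohFinite.tmap_tm]
  exact Mumford.tm_mem _ _

/-- Surjectivity of multiplication. -/
theorem mul_surjective [IsProper (X ↘ Spec (CommRingCat.of k))] {L : X.Modules} (hL : PicF.IsInvertible L)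
    (J : Type u) (ev : (∐ fun _ : J => Coh.structureModule X) ⟶ L) [Epi ev]
    (hinj : Function.Injective (ev.app ⊤)) (i h : ℕ)
    (hvan : Subsingleton (Coh.HH X (CohB1.tensorMod (CohB1.tensorPow (kernel ev) (i + 1)) (CohB1.tensorPow L h)) 1)) :
    Function.Surjective ((toSheafify (Opens.grothendieckTopology ↥X)
      (CohB1.tensorPre L (CohB1.tensorMod (CohB1.tensorPow (kernel ev) i) (CohB1.tensorPow L h))).presheaf).app
        (op ⊤)) := by
  let F := CohB1.tensorMod (CohB1.tensorPow (kernel ev) i) (CohB1.tensorPow L h)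
  refine Mumford.toSheafify_surjective (M := L) (N := F) fun z => ?_
  rcases isEmpty_or_nonempty X with hX | hX
  · rw [show z = 0 from Groth.Agent.QC.section_eq_of_locally fun x _ => (hX.false x).elim]
    exact zero_mem _
  haveI := finite_index k (CurveRR.isCoh_of_inv hL) J ev hinj
  haveI := Fintype.ofFinite J
  have hfree : FlatMod.IsFinLocFree (∐ fun _ : J => Coh.structureModule X) :=
    RelGen.isFinLocFree_of_iso (Sigma.whiskerEquiv (f := fun _ : Fin (Fintype.card J) => Coh.structureModule X)
        (g := fun _ : J => Coh.structureModule X) (Fintype.equivFin J).symm fun _ => Iso.refl _)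
      (HodgeCI.isFinLocFree_coprod _ fun _ => ResDesc.isFinLocFree_of_isInvertible (TMul.isInvertible_structureModule (X := X)))
  have hLf : FlatMod.IsFinLocFree L := ResDesc.isFinLocFree_of_isInvertible hL
  have hM := DCohLocus.isFinLocFree_kernel ev hfree hLf
  have hF : FlatMod.IsFinLocFree F := ResDesc.isFinLocFree_tensorMod (isFinLocFree_pow hM i)
    (ResDesc.isFinLocFree_of_isInvertible (TMul.isInvertible_tensorPow hL h))
  have hS := CurveRR.shortExact_tmapR (hasFrames hF) (S := ShortComplex.mk (kernel.ι ev) ev (kernel.condition ev))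
    { exact := ShortComplex.exact_of_f_is_kernel _ (kernelIsKernel ev) }
  let e : CohB1.tensorMod (CohB1.tensorPow (kernel ev) (i + 1)) (CohB1.tensorPow L h) ≅ CohB1.tensorMod (kernel ev) F :=
    PicGrp.tensorModIso (TMul.commIso (CohB1.tensorPow (kernel ev) i) (kernel ev)) (Iso.refl _) ≪≫
      TMul.assocIso _ _ _
  have h1 : Subsingleton (Coh.HH X (CohB1.tensorMod (kernel ev) F) 1) :=
    W7Hull.hh_subsingleton_of_retract e.hom e.inv e.inv_hom_id 1 hvan
  have hsurj : Function.Surjective ((tmap ev F).app ⊤) := by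
    rw [← CurveRR.surjective_hh0_iff (k := k)]
    intro x
    exact (CohFinite.δH_eq_zero_iff (CohFinite.shortExact_toAb hS) 0 x).1 (h1.elim _ _)
  obtain ⟨t, rfl⟩ := hsurj z
  obtain ⟨p, hp⟩ := free_tensor_mem F t
  rw [← hp]
  clear hp
  induction p using TensorProduct.induction_on with
  | zero => rw [map_zero, map_zero]; exact zero_mem _
  | tmul a b =>
    rw [TMul.tt_tmul, CohFinite.tmap_tm]
    exact Mumford.tm_mem _ _
  | add p q hp hq => rw [map_add, map_add]; exact add_mem hp hq

end Groth.Agent.SyzMul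

end
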